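import Cfsg.Agent.CosetCert.Pack

/-! Generated: the facts of the log. -/

namespace Cfsg.Agent.Fi23Mult.W16

open Cfsg.Agent.CosetCert

def factStore : Store := (.leaf 0x40000f0000f020000f0000f010000f0000f000000f0000f040000e0000e010000e0000e000000e0000e030000d0000d010000c0000d000000d0000d030000c0000c020000c0000c000000a0000c030000b0000b020000b0000b000000b0000b030000a0000a020000a0000a010000a0000a030000900009000000800009030000800008010000800008040000700007010000700007000000600007040000600006010000400006040000500005020000500005010000500005040000400004020000400004000000400004040000300003020000300003040000200002000000200002030000100001010000100001000000100001030000000000020000000000010000000000000000000000030000f0000e020000e0000d040000d0000b040000c00009010000b00009040000a00008020000900007020000800006030000700005030000600003000000500003030000400002010000300002020000200001040000100000)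

end Cfsg.Agent.Fi23Mult.W16
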