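import Cfsg.Agent.CosetCert.Pack

/-! Generated: the justifications. -/

namespace Cfsg.Agent.Fi23Mult.W16

open Cfsg.Agent.CosetCert

def justStore : Store := (.leaf 0x1bc0001d0000700804340003b48000360000e8000380000d01810500006f40001c0001b404081c0003ba0000e0000d60204060001d800016c0001900006c0001a04010b0000dc2000330000360000d0000ce06040c00019b000068000650102020000dc8000300002e80810680005dc000180000500408200002720000c0000b20204080001770000580005101020d00009920000880002e0000b0000200604160000f30000580004f01020400008a20000a80002804020e00013000011c000110000540001404010600009960002700002a0000a00009e0604020001130000480004d01020d0000886000078000260000900001c0604160000d30000480004b01020800008c0000f40000d0000440001004010a00007f0000400004501020200006a0000c40000b00003c0000e04010a00006dc0004000003c0000e0001040c081800013f0000340000c02010d00005d0000300003b01020700005b0000300000801020300003cc0000b0000280804340000f800014000020081038000166000048000100402080000788000120000401008100001c0000b4000050000240000804010100003bc000070000180804340000ab00000c000070000180000203020a00001e0000300005a02040600005780000a00002010084000014000148000060000280000808020c00005180000200001800004080216000038000040001380810100000c000000000940408340000200000000042020410000010000000001f01020400000c000005c00002c00001500000011950119501195011950119501136010ab0104e00ff100f6800edd00e8000e2300dc600d6900d0c00c8100c2400bc500b3c00ab100a54009c90096c008e400888008000077600718006bc0066000602005a700549004eb00464004060037c00321002c30023d001c90016f00116000bd000640004b000320001900000000000000000000000000000000000000000000000000000000000000000000000000000000)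

end Cfsg.Agent.Fi23Mult.W16
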