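import Cfsg.Agent.CosetCert.Pack

/-! Generated: the table. -/

namespace Cfsg.Agent.Fi23Mult.W16

open Cfsg.Agent.CosetCert

def edgeStore : Store := (.leaf 0x760000f000001d0000e00000740000f00000720000f00000700000f000006e0000e000001c0000f000001b0000d000006c0000e000006a0000e00000190000b00000680000d000001a0000e00000660000c00000640000d00000170000900000620000c00000600000c00000670000d000005e0000a00000180000d000005c0000b000005a0000b00000150000900000580000b00000130000800000560000a00000540000a00000520000a000005f0000c00000160000c00000500000900000110000700000140000b000004e0000800000120000a000004c00008000000f00006000004a00008000004f00009000004800007000000d00005000001000009000004600007000004400006000004200006000000b00003000000e00008000004000004000004500007000003e00005000000c00007000003c00005000003a00005000000900003000003800004000000700002000003600004000004100006000003400004000003200003000000a00006000003000003000000500002000000800005000002e00002000000600004000000300001000000400003000002c00002000000100000000002a00001000000200002000002800001000002600001000000000001000002400000000002200000000002000000000001e00000)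

def repStore : Store := (.leaf 0xf00000000000e00000000000d00000000000c00000000000b00000000000a000000000009000000000008000000000007000000000006000000000005000000000004000000000003000000000002000000000001000000000000)

def treeStore : Store := (.leaf 0x1c30000000001a20000000001640000000001240000000001210000000001040000000000e20000000000c20000000000a3000000000063000000000060000000000043000000000041000000000022000000000004000000000000)

end Cfsg.Agent.Fi23Mult.W16
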